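import Mathlib

/-!
# Every class in `Ext¹` of an abelian category comes from an extension; blended extensions
-/

set_option autoImplicit false

universe v' v w

open CategoryTheory CategoryTheory.Limits CategoryTheory.Abelian Pretriangulated

namespace ExtOneLib

variable {C : Type w} [Category.{v} C] [Abelian C]

open DerivedCategory in
theorem exists_triangle_realization [HasDerivedCategory C] {F Q : C}
    (z : (singleFunctor C 0).obj Q ⟶ ((singleFunctor C 0).obj F)⟦(1 : ℤ)⟧) :
    ∃ (X : C) (i : F ⟶ X) (q : X ⟶ Q) (w : i ≫ q = 0)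
      (hS : (ShortComplex.mk i q w).ShortExact), hS.singleδ = z := by
  let G := singleFunctor C 0
  obtain ⟨T, f, g, hT⟩ := distinguished_cocone_triangle₂ z
  haveI : T.IsGE 0 := TStructure.t.isGE₂ _ hT 0 (inferInstanceAs ((G.obj F).IsGE 0))
    (inferInstanceAs ((G.obj Q).IsGE 0))
  haveI : T.IsLE 0 := TStructure.t.isLE₂ _ hT 0 (inferInstanceAs ((G.obj F).IsLE 0))
    (inferInstanceAs ((G.obj Q).IsLE 0))
  obtain ⟨X, ⟨e⟩⟩ := exists_iso_singleFunctor_obj_of_isGE_of_isLE T 0
  obtain ⟨i, hi⟩ := G.map_surjective (f ≫ e.hom)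
  obtain ⟨q, hq⟩ := G.map_surjective (e.inv ≫ g)
  have hT' : Triangle.mk (G.map i) (G.map q) z ∈ distTriang (DerivedCategory C) := by
    refine isomorphic_distinguished _ hT _ ?_
    refine Triangle.isoMk _ _ (Iso.refl _) e.symm (Iso.refl _) ?_ ?_ ?_
    · show G.map i ≫ e.inv = 𝟙 (G.obj F) ≫ f
      rw [hi, Category.assoc, Iso.hom_inv_id, Category.comp_id, Category.id_comp]
    · show G.map q ≫ 𝟙 (G.obj Q) = e.inv ≫ g
      rw [hq, Category.comp_id]
    · show z ≫ (shiftFunctor (DerivedCategory C) (1 : ℤ)).map (𝟙 (G.obj F)) = 𝟙 (G.obj Q) ≫ z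
      rw [CategoryTheory.Functor.map_id, Category.comp_id, Category.id_comp]
  have w : i ≫ q = 0 := G.map_injective (by
    rw [G.map_comp, G.map_zero]; exact comp_distTriang_mor_zero₁₂ _ hT')
  let S := ShortComplex.mk i q w
  let e₀ := singleFunctorCompHomologyFunctorIso C 0
  have hex := DerivedCategory.HomologySequence.exact₂ _ hT' 0
  have hexS : S.Exact := by
    refine ShortComplex.exact_of_iso ?_ hex
    exact ShortComplex.isoMk (e₀.app F) (e₀.app X) (e₀.app Q) (e₀.hom.naturality i).symm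
      (e₀.hom.naturality q).symm
  have hmono : Mono i := by
    have h0 : IsZero ((homologyFunctor C (-1)).obj (G.obj Q)) :=
      (DerivedCategory.isGE_iff _ 0).1 (inferInstanceAs ((G.obj Q).IsGE 0)) (-1) (by norm_num)
    have h1 : Mono ((homologyFunctor C 0).map (G.map i)) :=
      (DerivedCategory.HomologySequence.mono_homologyMap_mor₁_iff _ hT' (-1) 0).2 (h0.eq_of_src _ _)
    refine ⟨fun {Z} a b hab => ?_⟩
    have h2 : Mono ((G ⋙ homologyFunctor C 0).map i) := h1
    have hi' : e₀.inv.app F ≫ (G ⋙ homologyFunctor C 0).map i ≫ e₀.hom.app X = i :=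
      NatIso.naturality_1 e₀ i
    rw [← hi'] at hab
    have : Mono (e₀.inv.app F ≫ (G ⋙ homologyFunctor C 0).map i ≫ e₀.hom.app X) := inferInstance
    exact (cancel_mono (e₀.inv.app F ≫ (G ⋙ homologyFunctor C 0).map i ≫ e₀.hom.app X)).1 hab
  have hepi : Epi q := by
    have h0 : IsZero ((homologyFunctor C 1).obj (G.obj F)) :=
      (DerivedCategory.isLE_iff _ 0).1 (inferInstanceAs ((G.obj F).IsLE 0)) 1 (by norm_num)
    have h1 : Epi ((homologyFunctor C 0).map (G.map q)) :=
      (DerivedCategory.HomologySequence.epi_homologyMap_mor₂_iff _ hT' 0 1).2 (h0.eq_of_tgt _ _)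
    have h2 : Epi ((G ⋙ homologyFunctor C 0).map q) := h1
    have hq' : e₀.inv.app X ≫ (G ⋙ homologyFunctor C 0).map q ≫ e₀.hom.app Q = q :=
      NatIso.naturality_1 e₀ q
    rw [← hq']
    exact inferInstanceAs (Epi (e₀.inv.app X ≫ (G ⋙ homologyFunctor C 0).map q ≫ e₀.hom.app Q))
  have hS : S.ShortExact := { exact := hexS, mono_f := hmono, epi_g := hepi }
  refine ⟨X, i, q, w, hS, ?_⟩
  obtain ⟨θ, h₂, h₃⟩ := complete_distinguished_triangle_morphism _ _ hS.singleTriangle_distinguished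
    hT' (𝟙 _) (𝟙 _) (by
      show G.map i ≫ 𝟙 _ = 𝟙 _ ≫ G.map i
      rw [Category.comp_id, Category.id_comp])
  obtain ⟨θ', rfl⟩ := G.map_surjective θ
  have hθ : θ' = 𝟙 Q := by
    rw [← cancel_epi q, Category.comp_id]
    apply G.map_injective
    rw [G.map_comp]
    exact (h₂.trans (Category.id_comp _))
  have h4 : hS.singleδ ≫ (shiftFunctor (DerivedCategory C) (1 : ℤ)).map (𝟙 (G.obj F)) =
      G.map θ' ≫ z := h₃
  rw [CategoryTheory.Functor.map_id, Category.comp_id, hθ, G.map_id, Category.id_comp] at h4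
  exact h4

variable [HasExt.{v'} C]

/-- Every element of `Ext¹` is the class of a short exact sequence. -/
theorem exists_extension {F Q : C} (y : Ext.{v'} Q F 1) :
    ∃ (X : C) (i : F ⟶ X) (q : X ⟶ Q) (w : i ≫ q = 0)
      (hS : (ShortComplex.mk i q w).ShortExact), hS.extClass = y := by
  letI := HasDerivedCategory.standard C
  obtain ⟨X, i, q, w, hS, h⟩ := exists_triangle_realization (C := C) y.hom
  refine ⟨X, i, q, w, hS, ?_⟩
  ext
  rw [ShortComplex.ShortExact.extClass_hom]
  exact h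

/-- An equality of classes gives a map of extensions. -/
theorem exists_hom_of_extClass {F F' X X' Q : C} {i : F ⟶ X} {q : X ⟶ Q} {w : i ≫ q = 0}
    (hS : (ShortComplex.mk i q w).ShortExact) {i' : F' ⟶ X'} {q' : X' ⟶ Q} {w' : i' ≫ q' = 0}
    (hS' : (ShortComplex.mk i' q' w').ShortExact) (b : F ⟶ F')
    (h : hS.extClass.comp (Ext.mk₀ b) (add_zero 1) = hS'.extClass) :
    ∃ p : X ⟶ X', i ≫ p = b ≫ i' ∧ p ≫ q' = q := by
  letI := HasDerivedCategory.standard C
  let G := DerivedCategory.singleFunctor C 0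
  have hz := congrArg Ext.hom h
  simp only [Ext.comp_hom, Ext.mk₀_hom, ShortComplex.ShortExact.extClass_hom,
    ShiftedHom.comp_mk₀] at hz
  obtain ⟨θ, h₁, h₂⟩ := complete_distinguished_triangle_morphism₂ _ _
    hS.singleTriangle_distinguished hS'.singleTriangle_distinguished (G.map b) (𝟙 _) (by
      show hS.singleδ ≫ (shiftFunctor (DerivedCategory C) (1 : ℤ)).map (G.map b) = 𝟙 _ ≫ hS'.singleδ
      rw [Category.id_comp]
      rw [← hS.extClass_hom, ← hS'.extClass_hom]
      exact hz)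
  obtain ⟨p, rfl⟩ := G.map_surjective θ
  refine ⟨p, G.map_injective ?_, G.map_injective ?_⟩
  · rw [G.map_comp, G.map_comp]; exact h₁
  · rw [G.map_comp]; exact h₂.symm.trans (Category.comp_id _)

theorem blended_iff {P F R E Q : C} (a : P ⟶ F) (b : F ⟶ R) (wF : a ≫ b = 0)
    (hF : (ShortComplex.mk a b wF).ShortExact) (c : R ⟶ E) (d : E ⟶ Q) (wE : c ≫ d = 0)
    (hE : (ShortComplex.mk c d wE).ShortExact) :
    (∃ (X : C) (i : F ⟶ X) (p : X ⟶ E), i ≫ p = b ≫ c ∧
        (∃ w : (a ≫ i) ≫ p = 0, (ShortComplex.mk (a ≫ i) p w).ShortExact) ∧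
        (∃ w : i ≫ (p ≫ d) = 0, (ShortComplex.mk i (p ≫ d) w).ShortExact)) ↔
      hE.extClass.comp hF.extClass (rfl : 1 + 1 = 2) = 0 := by
  constructor
  · rintro ⟨X, i, p, hip, -, w, hX⟩
    have hnat := ShortComplex.ShortExact.extClass_naturality hX hE
      (ShortComplex.homMk (S₁ := ShortComplex.mk i (p ≫ d) w) (S₂ := ShortComplex.mk c d wE)
        b p (𝟙 Q) hip.symm (Category.comp_id _).symm)
    simp only [ShortComplex.homMk_τ₁, ShortComplex.homMk_τ₃, Ext.mk₀_id_comp] at hnat
    rw [← hnat, Ext.comp_assoc_of_second_deg_zero]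
    have := hF.comp_extClass
    rw [this, Ext.comp_zero]
  · intro h
    obtain ⟨y, hy⟩ := Ext.covariant_sequence_exact₃ Q hF hE.extClass (rfl : 1 + 1 = 2) h
    obtain ⟨X, i, q, w, hX, rfl⟩ := exists_extension y
    obtain ⟨p, hip, hpd⟩ := exists_hom_of_extClass hX hE b hy
    haveI : Mono i := hX.mono_f
    haveI : Mono a := hF.mono_f
    haveI : Epi b := hF.epi_g
    haveI : Epi q := hX.epi_g
    haveI : Mono c := hE.mono_f
    have w1 : (a ≫ i) ≫ p = 0 := by rw [Category.assoc, hip, reassoc_of% wF, zero_comp]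
    refine ⟨X, i, p, hip, ⟨w1, ?_⟩, ?_⟩
    · have hk : ∀ {K : C} (k : K ⟶ X), k ≫ p = 0 → ∃ l : K ⟶ P, l ≫ a ≫ i = k := by
        intro K k hk
        have hkq : k ≫ q = 0 := by rw [← hpd, reassoc_of% hk, zero_comp]
        have hl : hX.exact.lift k hkq ≫ i = k := hX.exact.lift_f k hkq
        have hyb : hX.exact.lift k hkq ≫ b = 0 := by
          rw [← cancel_mono c, zero_comp, Category.assoc, ← hip, reassoc_of% hl, hk]
        refine ⟨hF.exact.lift _ hyb, ?_⟩
        have h5 : hF.exact.lift _ hyb ≫ a = hX.exact.lift k hkq := hF.exact.lift_f _ hyb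
        rw [← Category.assoc, h5, hl]
      have hepi : Epi p := by
        refine Preadditive.epi_of_cancel_zero p fun {Z} h hh => ?_
        have h1 : c ≫ h = 0 := by
          rw [← cancel_epi b, comp_zero, ← reassoc_of% hip, hh, comp_zero]
        haveI : Epi d := hE.epi_g
        have h3 : d ≫ hE.exact.desc h h1 = h := hE.exact.g_desc h h1
        have h2 : q ≫ hE.exact.desc h h1 = 0 := by
          rw [← hpd, Category.assoc, h3, hh]
        rw [← h3, (cancel_epi q).1 (h2.trans comp_zero.symm), comp_zero]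
      refine { exact := ?_, mono_f := inferInstanceAs (Mono (a ≫ i)), epi_g := hepi }
      refine ShortComplex.exact_of_f_is_kernel _ (KernelFork.IsLimit.ofι' (a ≫ i) w1
        fun {K} k hk' => ⟨(hk k hk').choose, ?_⟩)
      exact (hk k hk').choose_spec
    · have hz : i ≫ p ≫ d = 0 := by rw [reassoc_of% hip, wE, comp_zero]
      refine ⟨hz, ?_⟩
      exact ShortComplex.shortExact_of_iso (ShortComplex.isoMk (S₁ := ShortComplex.mk i q w)
        (S₂ := ShortComplex.mk i (p ≫ d) hz) (Iso.refl _) (Iso.refl _) (Iso.refl _)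
        (by simp) (by simp [hpd])) hX

end ExtOneLib
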